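import Groth.Agent.CurvesB.OmegaDer
import Groth.Agent.Fdesc.QCohStalk
import Groth.Agent.Sga67.LocBasis
import Mathlib.AlgebraicGeometry.Morphisms.Smooth
import Mathlib.RingTheory.Smooth.StandardSmoothCotangent

/-!
# The sheaf of differentials of a smooth morphism is finite locally free

* `isLocBasis_of_isQCoh`: a basis of the sections of a quasi-coherent module over an affine open is a local basis;
* `isFinLocFreeOfRank_omega`: `Ω_{X/Y}` is locally free of rank `n` for `X ⟶ Y` smooth of relative dimension `n`;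
* `isFinLocFree_omega`: `Ω_{X/Y}` is finite locally free for `X ⟶ Y` smooth.
-/

set_option autoImplicit false
universe u

open CategoryTheory CategoryTheory.Limits AlgebraicGeometry TopologicalSpace Opposite

namespace Groth.Agent.Vancyc.H878.OmegaRank

open Groth.Agent.Sga67.Sec Groth.Agent.Sga67.LocBasis Groth.Agent.CurvesB.OmegaDer
open Groth.Agent.VarietyB

variable {X Y : Scheme.{u}}

/-- A basis of the sections of a quasi-coherent module over an affine open is a local basis. -/
theorem isLocBasis_of_isQCoh {M : X.Modules} (hM : Coh.IsQCoh M) {W : X.Opens} (hW : IsAffineOpen W)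
    {κ : Type*} [Fintype κ] (b : Module.Basis κ Γ(X, W) Γ(M, W)) :
    IsLocBasis (M := M) (U := W) (κ := κ) (fun i => (show Sec M W from b i)) := by
  apply isLocBasis_of_locally
  intro x V hV hx
  obtain ⟨g, hg, hxg⟩ := hW.exists_basicOpen_le ⟨x, hx⟩ (hV hx)
  refine ⟨X.basicOpen g, hg.trans hV, hg, hxg, ?_⟩
  let := Groth.Agent.Fdesc.QCohStalk.resModule M (X.basicOpen_le g)
  have hloc := Groth.Agent.Fdesc.QCohStalk.isLocalizedModule_res M hW hM g
  have hloc' := hW.isLocalization_basicOpen g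
  have : IsScalarTower Γ(X, W) Γ(X, X.basicOpen g) Γ(M, X.basicOpen g) := by
    refine ⟨fun a b c => ?_⟩
    rw [Algebra.smul_def, mul_smul]
    rfl
  let b' := b.ofIsLocalizedModule Γ(X, X.basicOpen g) (.powers g)
    (Groth.Agent.Fdesc.QCohStalk.resₗ M (X.basicOpen_le g))
  have h1 : ∀ a : κ → Γ(X, X.basicOpen g), comb (M := M) (fun i => (show Sec M W from b i)) (hg.trans hV) a =
      b'.equivFun.symm a := by
    intro a
    rw [comb_apply, Module.Basis.equivFun_symm_apply]
    refine Finset.sum_congr rfl fun i _ => ?_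
    rw [Module.Basis.ofIsLocalizedModule_apply]
    rfl
  have h2 := b'.equivFun.symm.bijective
  exact ⟨fun s t hst => h2.1 (by rw [← h1, ← h1]; exact hst), fun s => by
    obtain ⟨a, ha⟩ := h2.2 s
    exact ⟨a, (h1 a).trans ha⟩⟩

theorem isQCoh_omega (f : X ⟶ Y) : Coh.IsQCoh (Omega.sheaf f) :=
  PullSec.isQCoh_pullback _ _ (PerfA.IdealModule.isQCoh_idealMod _)

/-- `Ω_{X/Y}` is locally free of rank `n` for `X ⟶ Y` smooth of relative dimension `n`. -/
theorem isFinLocFreeOfRank_omega (n : ℕ) (f : X ⟶ Y) [SmoothOfRelativeDimension n f]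
    [QuasiCompact (pullback.diagonal f)] : FlatMod.IsFinLocFreeOfRank n (Omega.sheaf f) := by
  intro x
  obtain ⟨U, hU, W, hW, hx, e, h⟩ :=
    SmoothOfRelativeDimension.exists_isStandardSmoothOfRelativeDimension (f := f) (n := n) x
  refine ⟨W, hx, nonempty_restrict_iso_iff.mpr ?_⟩
  let := algX f e
  let := modO f e
  have := isScalarTower f e
  have h1 : Algebra.IsStandardSmoothOfRelativeDimension n Γ(Y, U) Γ(X, W) := h
  have h2 : Algebra.IsStandardSmooth Γ(Y, U) Γ(X, W) :=
    Algebra.IsStandardSmoothOfRelativeDimension.isStandardSmooth n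
  have h3 : Nontrivial Γ(X, W) := by
    have : Nonempty W := ⟨⟨x, hx⟩⟩
    infer_instance
  have h4 : Module.finrank Γ(X, W) Ω[Γ(X, W)⁄Γ(Y, U)] = n :=
    Module.finrank_eq_of_rank_eq (Algebra.IsStandardSmoothOfRelativeDimension.rank_kaehlerDifferential n)
  let b := (Module.finBasisOfFinrankEq Γ(X, W) Ω[Γ(X, W)⁄Γ(Y, U)] h4).map
    (LinearEquiv.ofBijective _ (bijective_lift f e hU hW))
  exact ⟨_, isLocBasis_of_isQCoh (isQCoh_omega f) hW b⟩

/-- `Ω_{X/Y}` is finite locally free for `X ⟶ Y` smooth. -/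
theorem isFinLocFree_omega (f : X ⟶ Y) [Smooth f]
    [QuasiCompact (pullback.diagonal f)] : FlatMod.IsFinLocFree (Omega.sheaf f) := by
  intro x
  obtain ⟨U, hU, W, hW, hx, e, h⟩ := Smooth.exists_isStandardSmooth f x
  let := algX f e
  let := modO f e
  have := isScalarTower f e
  have h2 : Algebra.IsStandardSmooth Γ(Y, U) Γ(X, W) := h
  have h3 : Nontrivial Γ(X, W) := by
    have : Nonempty W := ⟨⟨x, hx⟩⟩
    infer_instance
  let b := (Module.finBasis Γ(X, W) Ω[Γ(X, W)⁄Γ(Y, U)]).map
    (LinearEquiv.ofBijective _ (bijective_lift f e hU hW))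
  exact ⟨W, _, hx, nonempty_restrict_iso_iff.mpr ⟨_, isLocBasis_of_isQCoh (isQCoh_omega f) hW b⟩⟩

end Groth.Agent.Vancyc.H878.OmegaRank
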