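import Groth.Agent.Vancyc.H878.A6
import Groth.Agent.Vancyc.H691.GenFib
import Groth.Agent.PerfA.CohSerre
import Groth.Agent.S1524

/-!
# (A6) for S4009

`F = X ×_S Spec Ω` the geometric generic fibre: `χ(pr₁^* Λ^{p+1} Ω_X) = χ(Λ^{p+1} Ω_F) + χ(Λ^p Ω_F)` and
`χ(pr₁^* Λ^0 Ω_X) = χ(Λ^0 Ω_F)`, Euler characteristics over `Ω`.
-/

set_option autoImplicit false
universe u

open CategoryTheory CategoryTheory.Limits AlgebraicGeometry TopologicalSpace

namespace Groth.Agent.Vancyc.H878.A6Main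

open Groth.Agent.Vancyc.H326.ChiLam EulerExt

/-- additivity of `χ` on a proper scheme -/
theorem addHyp_of_isProper (K : Type u) [Field K] (X : Scheme.{u}) [X.Over (Spec (CommRingCat.of K))]
    [IsProper (X ↘ (Spec (CommRingCat.of K)))] : AddHyp K X := fun C hC h₁ h₂ h₃ =>
  Groth.Agent.S1524.result K X C hC (Groth.Agent.PerfA.CohSerre.isCoh_of_isFinLocFree h₁)
    (Groth.Agent.PerfA.CohSerre.isCoh_of_isFinLocFree h₂) (Groth.Agent.PerfA.CohSerre.isCoh_of_isFinLocFree h₃)

/-- numerical lemma -/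
theorem sum_aux (a b : ℕ → ℤ) (hb : ∀ p, b (p + 1) = a (p + 1) + a p) (n : ℕ) :
    ∑ i ∈ Finset.range (n + 2), (-1 : ℤ) ^ i * (i * b i) =
      - ∑ i ∈ Finset.range (n + 1), (-1 : ℤ) ^ i * a i + (-1 : ℤ) ^ (n + 1) * ((n + 1) * a (n + 1)) := by
  induction n with
  | zero => simp [Finset.sum_range_succ, hb 0]
  | succ m ih =>
    rw [Finset.sum_range_succ, ih, Finset.sum_range_succ _ (m + 1), hb (m + 1)]
    push_cast
    ring

variable {k : Type u} [Field k] {S X : Scheme.{u}} {pS : S ⟶ Spec (CommRingCat.of k)}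
  {pX : X ⟶ Spec (CommRingCat.of k)} [IsProper pS] [SmoothOfRelativeDimension 1 pS]
  [IrreducibleSpace ↥S] (n : ℕ) [IsProper pX] [SmoothOfRelativeDimension (n + 1) pX]
  {f : X ⟶ S} (hf : f ≫ pS = pX) {U : X.Opens} (hU : {x : X | x ∉ U}.Finite) (hUf : Smooth (U.ι ≫ f))
  {Ω : Type u} [Field Ω] {η : Spec (CommRingCat.of Ω) ⟶ S}
  (hη : η.base (IsLocalRing.closedPoint Ω) = genericPoint ↥S)
  [I : (pullback f η).Over (Spec (CommRingCat.of Ω))]
  (hI : (pullback f η) ↘ (Spec (CommRingCat.of Ω)) = pullback.snd f η)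

include n hf hU hUf hη hI

/-- (A6), the step -/
theorem euler_pull_succ (p : ℕ) :
    Curv2.euler Ω (pullback f η) ((Scheme.Modules.pullback (pullback.fst f η)).obj
        (extPow (Omega.sheaf pX) (p + 1))) =
      Curv2.euler Ω (pullback f η) (extPow (Omega.sheaf (pullback.snd f η)) (p + 1)) +
        Curv2.euler Ω (pullback f η) (extPow (Omega.sheaf (pullback.snd f η)) p) := by
  have h1 : Smooth pX := SmoothOfRelativeDimension.smooth (n + 1) pX
  have h2 : IsProper ((pullback f η) ↘ (Spec (CommRingCat.of Ω))) := by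
    rw [hI]
    exact Groth.Agent.Vancyc.H691.GenFib.proper_snd hf η
  exact A6.euler_pull_succ pS pX f hf U hUf η (Groth.Agent.Vancyc.H691.GenFib.fst_mem hf hU hη) Ω
    (addHyp_of_isProper Ω _) p

omit hI in
/-- (A6), degree zero -/
theorem euler_pull_zero :
    Curv2.euler Ω (pullback f η) ((Scheme.Modules.pullback (pullback.fst f η)).obj
        (extPow (Omega.sheaf pX) 0)) =
      Curv2.euler Ω (pullback f η) (extPow (Omega.sheaf (pullback.snd f η)) 0) := by
  have h1 : Smooth pX := SmoothOfRelativeDimension.smooth (n + 1) pX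
  exact A6.euler_pull_zero pS pX f hf U hUf η (Groth.Agent.Vancyc.H691.GenFib.fst_mem hf hU hη) Ω


/-- `Σ_{i ≤ n+1} (-1)^i i χ(F, pr₁^* Λ^i Ω_X) = - Σ_{i ≤ n} (-1)^i χ(F, Λ^i Ω_F)` -/
theorem sum_eq :
    ∑ i ∈ Finset.range (n + 2), (-1 : ℤ) ^ i * (i * Curv2.euler Ω (pullback f η)
      ((Scheme.Modules.pullback (pullback.fst f η)).obj (extPow (Omega.sheaf pX) i))) =
      - c Ω n (Omega.sheaf (pullback.snd f η)) := by
  have h2 : IsProper ((pullback f η) ↘ (Spec (CommRingCat.of Ω))) := by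
    rw [hI]
    exact Groth.Agent.Vancyc.H691.GenFib.proper_snd hf η
  have h3 : IsProper (pullback.snd f η) := Groth.Agent.Vancyc.H691.GenFib.proper_snd hf η
  have h4 : SmoothOfRelativeDimension n (pullback.snd f η) :=
    Groth.Agent.Vancyc.H691.GenFib.smooth_snd hf hU hη n hUf
  have hz := isZero_extPow (OmegaRank.isFinLocFreeOfRank_omega n (pullback.snd f η)) (Nat.lt_succ_self n)
  have hz' : Curv2.euler Ω (pullback f η) (extPow (Omega.sheaf (pullback.snd f η)) (n + 1)) = 0 := by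
    have h5 := A6.chiK_cl Ω (addHyp_of_isProper Ω (pullback f η))
      (Groth.Agent.Sga67.ExtClass.isFinLocFree_zero hz)
    rw [← h5, cl_isZero hz, map_zero]
  rw [sum_aux (fun i => Curv2.euler Ω (pullback f η) (extPow (Omega.sheaf (pullback.snd f η)) i))
    (fun i => Curv2.euler Ω (pullback f η)
      ((Scheme.Modules.pullback (pullback.fst f η)).obj (extPow (Omega.sheaf pX) i)))
    (fun p => euler_pull_succ n hf hU hUf hη hI p) n, hz', mul_zero,
    mul_zero, add_zero]
  rfl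

end Groth.Agent.Vancyc.H878.A6Main
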