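import Groth.Agent.Vancyc.H326.ChiLam
import Groth.Agent.Sga67.ExtClass
import Groth.Agent.Sga67.K0Basic

/-!
# Euler characteristics of exterior powers of an extension by the structure sheaf

For `0 → O → E → E'' → 0` exact with `E''` finite locally free, `χ(Λ^{p+1} E) = χ(Λ^{p+1} E'') + χ(Λ^p E'')`.
-/

set_option autoImplicit false

universe u

open CategoryTheory CategoryTheory.Limits AlgebraicGeometry Opposite TopologicalSpace

namespace Groth.Agent.Vancyc.H878.EulerExt

open Groth.Agent.Vancyc.H326.ChiLam Groth.Agent.Sga67.LocBasis Groth.Agent.Sga67.Sec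
open scoped TensorProduct

/-- additivity of the Euler characteristic for finite locally free modules -/
def AddHyp (k : Type u) [Field k] (X : Scheme.{u}) [X.Over (Spec (CommRingCat.of k))] : Prop :=
  ∀ C : ShortComplex X.Modules, C.ShortExact → FlatMod.IsFinLocFree C.X₁ → FlatMod.IsFinLocFree C.X₂ →
    FlatMod.IsFinLocFree C.X₃ → Curv2.euler k X C.X₂ = Curv2.euler k X C.X₁ + Curv2.euler k X C.X₃

section

variable {X : Scheme.{u}}

/-- the class of a finite locally free module -/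
noncomputable abbrev cl (M : X.Modules) : KZero.K0sub (fun M : X.Modules => FlatMod.IsFinLocFree M) :=
  KZero.clSub (fun M : X.Modules => FlatMod.IsFinLocFree M) M

theorem cl_iso {M N : X.Modules} (e : M ≅ N) (hM : FlatMod.IsFinLocFree M) (hN : FlatMod.IsFinLocFree N) :
    cl M = cl N :=
  Groth.Agent.Sga67.K0Basic.clSub_iso' (P := fun M : X.Modules => FlatMod.IsFinLocFree M) e hM hN
    (isZero_zero _) (Groth.Agent.Sga67.ExtClass.isFinLocFree_zero (isZero_zero _))

theorem cl_isZero {M : X.Modules} (hM : IsZero M) : cl M = 0 :=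
  Groth.Agent.Sga67.K0Basic.clSub_of_isZero (P := fun M : X.Modules => FlatMod.IsFinLocFree M) hM

/-- High exterior powers vanish. -/
theorem isZero_extPow {d i : ℕ} {E : X.Modules} (hE : FlatMod.IsFinLocFreeOfRank d E) (hi : d < i) :
    IsZero (extPow E i) := by
  obtain ⟨φ, hφ⟩ := Groth.Agent.Sga67.ExtSheaf.exists_phi (isExtPow_extPow (isFinLocFree_of_rank hE) i)
  rw [IsZero.iff_id_eq_zero]
  apply hom_ext_of_locally
  intro x U hx
  obtain ⟨V, hxV, hn⟩ := hE x
  obtain ⟨b, hb⟩ := nonempty_restrict_iso_iff.mp hn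
  obtain ⟨_, ⟨W, rfl⟩, hxW, hW⟩ := Opens.isBasis_iff_nbhd.mp (affineBasis X) (show x ∈ U ⊓ V from ⟨hx, hxV⟩)
  refine ⟨W.1, hW.trans inf_le_left, hxW, fun s => ?_⟩
  have h1 := isLocBasis_extPow φ hφ (U := W) (hb.restrict (hW.trans inf_le_right)) W.1 le_rfl
  obtain ⟨a, rfl⟩ := h1.2 s
  have : IsEmpty (Set.powersetCard (Fin d) i) := by
    refine ⟨fun J => ?_⟩
    have h2 : J.1.card = i := J.2
    have h3 := Finset.card_le_univ J.1
    rw [Fintype.card_fin] at h3
    omega
  rw [appS_id, appS_zero, comb_apply]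
  exact Finset.sum_of_isEmpty _

theorem isFinLocFreeOfRank_one : FlatMod.IsFinLocFreeOfRank 1 (Coh.structureModule X) := by
  intro x
  exact ⟨⊤, trivial, nonempty_restrict_iso_iff.mpr ⟨_, Groth.Agent.Sga67.TensorOps.isLocBasis_one⟩⟩

theorem isFinLocFree_O : FlatMod.IsFinLocFree (Coh.structureModule X) :=
  isFinLocFree_of_rank isFinLocFreeOfRank_one

theorem isFinLocFree_iso {M N : X.Modules} (e : M ≅ N) (hM : FlatMod.IsFinLocFree M) : FlatMod.IsFinLocFree N := by
  rw [isFinLocFree_iff] at hM ⊢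
  intro x
  obtain ⟨U, n, hx, b, hb⟩ := hM x
  exact ⟨U, n, hx, _, hb.of_iso e⟩

theorem isFinLocFreeOfRank_iso {d : ℕ} {M N : X.Modules} (e : M ≅ N) (hM : FlatMod.IsFinLocFreeOfRank d M) :
    FlatMod.IsFinLocFreeOfRank d N := by
  intro x
  obtain ⟨U, hx, hn⟩ := hM x
  obtain ⟨b, hb⟩ := nonempty_restrict_iso_iff.mp hn
  exact ⟨U, hx, nonempty_restrict_iso_iff.mpr ⟨_, hb.of_iso e⟩⟩

theorem sec_subsingleton {M : X.Modules} (hM : IsZero M) (V : X.Opens) : Subsingleton (Sec M V) := by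
  refine ⟨fun s t => ?_⟩
  have h : (𝟙 M) = 0 := hM.eq_of_src _ _
  have h1 : ∀ s : Sec M V, s = 0 := by
    intro s
    have := congrArg (fun f => appS f V s) h
    simpa using this
  rw [h1 s, h1 t]

/-- tensoring with a zero module -/
theorem isZero_tensorMod {M N : X.Modules} (hM : IsZero M) : IsZero (CohB1.tensorMod M N) := by
  rw [IsZero.iff_id_eq_zero]
  apply hom_ext
  intro U s
  apply eq_of_locally
  intro x hx
  obtain ⟨V, hV, hxV, t, ht⟩ := tau_locsurj M N s x hx
  refine ⟨V, hV, hxV, ?_⟩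
  have := sec_subsingleton hM V
  have h0 : t = 0 := by
    induction t using TensorProduct.induction_on with
    | zero => rfl
    | add x y hx hy => exact Subsingleton.elim _ _
    | tmul x y => rw [Subsingleton.elim x 0, TensorProduct.zero_tmul]
  rw [appS_id, appS_zero, map_zero, ← ht, h0, map_zero]

/-- `[Λ^{p+1} E] = [Λ^{p+1} E''] + [Λ^p E'']` for an extension `E` of `E''` by `O`. -/
theorem cl_extPow_succ {C : ShortComplex X.Modules} (hC : C.ShortExact) (e : C.X₁ ≅ Coh.structureModule X)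
    (h₃ : FlatMod.IsFinLocFree C.X₃) (p : ℕ) :
    cl (extPow C.X₂ (p + 1)) = cl (extPow C.X₃ (p + 1)) + cl (extPow C.X₃ p) := by
  have h₁ : FlatMod.IsFinLocFree C.X₁ := isFinLocFree_iso e.symm isFinLocFree_O
  have h₁' : FlatMod.IsFinLocFreeOfRank 1 C.X₁ := isFinLocFreeOfRank_iso e.symm isFinLocFreeOfRank_one
  have h₂ := isFinLocFree_of_shortExact hC h₁ h₃
  have key := Groth.Agent.Sga67.ExtClass.class_extPow hC h₁ h₃ (extPow C.X₁) (extPow C.X₂) (extPow C.X₃)
    (isExtPow_extPow h₁) (isExtPow_extPow h₂) (isExtPow_extPow h₃) (p + 1)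
  rw [Finset.sum_range_succ', Finset.sum_range_succ', Finset.sum_eq_zero, zero_add] at key
  · refine key.trans ?_
    obtain ⟨e0⟩ := nonempty_iso_extPow h₁ (Iso.refl C.X₁) (Groth.Agent.Sga67.TensorOps.isExtPow_zero C.X₁)
    obtain ⟨e1⟩ := nonempty_iso_extPow h₁ (Iso.refl C.X₁) (Groth.Agent.Sga67.TensorOps.isExtPow_one C.X₁)
    have h0 : cl (CohB1.tensorMod (extPow C.X₁ 0) (extPow C.X₃ (p + 1))) = cl (extPow C.X₃ (p + 1)) := by
      refine cl_iso ((DCoh.tensorBi.mapIso e0).app _ ≪≫ Groth.Agent.Sga67.TensorOps.tensorUnit _)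
        (isFinLocFree_tensorMod (isFinLocFree_extPow h₁ 0) (isFinLocFree_extPow h₃ _)) (isFinLocFree_extPow h₃ _)
    have h1 : cl (CohB1.tensorMod (extPow C.X₁ 1) (extPow C.X₃ p)) = cl (extPow C.X₃ p) := by
      refine cl_iso ((DCoh.tensorBi.mapIso (e1 ≪≫ e)).app _ ≪≫ Groth.Agent.Sga67.TensorOps.tensorUnit _)
        (isFinLocFree_tensorMod (isFinLocFree_extPow h₁ 1) (isFinLocFree_extPow h₃ _)) (isFinLocFree_extPow h₃ _)
    rw [add_comm (cl (extPow C.X₃ (p + 1))), ← h0, ← h1]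
    rfl
  · intro i _
    exact cl_isZero (isZero_tensorMod (isZero_extPow h₁' (by omega)))

end

end Groth.Agent.Vancyc.H878.EulerExt
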