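import Groth.Agent.Krr.H487.LocBasisPull
import Groth.Agent.Sga67.TensorOps
import Groth.Agent.Fga.UnitRestrict

/-!
# Line bundles on the spectrum of a field are trivial
-/

set_option autoImplicit false
universe u

open CategoryTheory CategoryTheory.Limits AlgebraicGeometry TopologicalSpace

namespace Groth.Agent.Vancyc.H878.Triv

open Groth.Agent.Sga67.Sec Groth.Agent.Sga67.LocBasis Groth.Agent.Krr.H487.LocBasisPull

theorem isFinLocFreeOfRank_pullback {X Y : Scheme.{u}} {r : ℕ} (f : X ⟶ Y) {M : Y.Modules}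
    (hM : FlatMod.IsFinLocFreeOfRank r M) :
    FlatMod.IsFinLocFreeOfRank r ((Scheme.Modules.pullback f).obj M) := by
  intro x
  obtain ⟨V, hV, e⟩ := hM (f x)
  obtain ⟨b, hb⟩ := nonempty_restrict_iso_iff.mp e
  exact ⟨f ⁻¹ᵁ V, hV, nonempty_restrict_iso_iff.mpr ⟨_, isLocBasis_pbS f hb⟩⟩

/-- On a one-point scheme finite locally free modules of rank one are trivial. -/
theorem nonempty_iso_O {X : Scheme.{u}} [Subsingleton ↥X] (x : X) {M : X.Modules}
    (hM : FlatMod.IsFinLocFreeOfRank 1 M) : Nonempty (M ≅ Coh.structureModule X) := by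
  obtain ⟨V, hV, e⟩ := hM x
  obtain ⟨b, hb⟩ := nonempty_restrict_iso_iff.mp e
  have hV' : V = ⊤ := by
    ext z
    simp [Subsingleton.elim z x, hV]
  subst hV'
  obtain ⟨e1⟩ := nonempty_iso_free hb
  obtain ⟨e2⟩ := nonempty_iso_free (X := X) Groth.Agent.Sga67.TensorOps.isLocBasis_one
  exact ⟨e1 ≪≫ e2.symm⟩

/-- The pull-back of a line bundle through the spectrum of a field is trivial. -/
theorem nonempty_pullback_iso_O {K : Type u} [Field K] {F S : Scheme.{u}} (g : F ⟶ Spec (CommRingCat.of K))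
    (η : Spec (CommRingCat.of K) ⟶ S) {L : S.Modules} (hL : FlatMod.IsFinLocFreeOfRank 1 L) :
    Nonempty ((Scheme.Modules.pullback g).obj ((Scheme.Modules.pullback η).obj L) ≅ Coh.structureModule F) := by
  have hs : Subsingleton ↥(Spec (CommRingCat.of K)) := inferInstanceAs (Subsingleton (PrimeSpectrum K))
  obtain ⟨e⟩ := nonempty_iso_O (IsLocalRing.closedPoint K) (isFinLocFreeOfRank_pullback η hL)
  exact ⟨(Scheme.Modules.pullback g).mapIso e ≪≫ Groth.Agent.Fga.UnitRestrict.pullbackUnitIso g⟩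

end Groth.Agent.Vancyc.H878.Triv
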