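import Groth.Agent.Vancyc.H878.GenSeq
import Groth.Agent.Vancyc.H878.EulerExt
import Groth.Agent.Vancyc.H878.Triv
import Groth.Agent.Krr.H487.PullExt

/-!
# Euler characteristics of the exterior powers of `Ω_X` on the geometric generic fibre

For `f : X ⟶ S` over a field `k`, `S` a smooth curve, `X` smooth, `F = X ×_S Spec Ω` lying over the smooth locus of `f`:
`χ(pr₁^* Λ^{p+1} Ω_X) = χ(Λ^{p+1} Ω_F) + χ(Λ^p Ω_F)` and `χ(pr₁^* Λ^0 Ω_X) = χ(Λ^0 Ω_F)`.
-/

set_option autoImplicit false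
universe u

open CategoryTheory CategoryTheory.Limits AlgebraicGeometry TopologicalSpace

namespace Groth.Agent.Vancyc.H878.A6

open Groth.Agent.Vancyc.H326.ChiLam EulerExt

/-- the Euler characteristic on `K₀` of finite locally free modules -/
noncomputable def chiK (k : Type u) [Field k] {X : Scheme.{u}} [X.Over (Spec (CommRingCat.of k))]
    (h : AddHyp k X) : KZero.K0sub (fun M : X.Modules => FlatMod.IsFinLocFree M) →+ ℤ :=
  Groth.Agent.Sga67.K0Basic.liftSub (fun M : X.Modules => FlatMod.IsFinLocFree M)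
    (fun M => Curv2.euler k X M) h

theorem chiK_cl (k : Type u) [Field k] {X : Scheme.{u}} [X.Over (Spec (CommRingCat.of k))]
    (h : AddHyp k X) {M : X.Modules} (hM : FlatMod.IsFinLocFree M) : chiK k h (cl M) = Curv2.euler k X M :=
  Groth.Agent.Sga67.K0Basic.liftSub_clSub (P := fun M : X.Modules => FlatMod.IsFinLocFree M)
    (fun M => Curv2.euler k X M) _ hM

/-- `χ(Λ^{p+1} E) = χ(Λ^{p+1} E'') + χ(Λ^p E'')` for `0 → O → E → E'' → 0` -/
theorem euler_extPow_succ (k : Type u) [Field k] {X : Scheme.{u}} [X.Over (Spec (CommRingCat.of k))]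
    (h : AddHyp k X) {C : ShortComplex X.Modules} (hC : C.ShortExact) (e : C.X₁ ≅ Coh.structureModule X)
    (h₃ : FlatMod.IsFinLocFree C.X₃) (p : ℕ) :
    Curv2.euler k X (extPow C.X₂ (p + 1)) =
      Curv2.euler k X (extPow C.X₃ (p + 1)) + Curv2.euler k X (extPow C.X₃ p) := by
  have h₁ : FlatMod.IsFinLocFree C.X₁ := isFinLocFree_iso e.symm isFinLocFree_O
  have h₂ := Groth.Agent.Sga67.LocBasis.isFinLocFree_of_shortExact hC h₁ h₃
  have := congrArg (chiK k h) (cl_extPow_succ hC e h₃ p)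
  rwa [map_add, chiK_cl k h (isFinLocFree_extPow h₂ _), chiK_cl k h (isFinLocFree_extPow h₃ _),
    chiK_cl k h (isFinLocFree_extPow h₃ _)] at this

section Main

variable {k : Type u} [Field k] {S X : Scheme.{u}} (pS : S ⟶ Spec (CommRingCat.of k))
  (pX : X ⟶ Spec (CommRingCat.of k)) [IsSeparated pS] [SmoothOfRelativeDimension 1 pS]
  [IsSeparated pX] [Smooth pX] (f : X ⟶ S) (hf : f ≫ pS = pX) (U : X.Opens) (hUf : Smooth (U.ι ≫ f))
  {Ω : Type u} [Field Ω] (η : Spec (CommRingCat.of Ω) ⟶ S)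
  (hr : ∀ z : ↥(pullback f η), (pullback.fst f η).base z ∈ U)

omit [Smooth pX] in
include hf hUf hr in
/-- the exact sequence `0 → O → pr₁^* Ω_X → Ω_F → 0` -/
theorem exists_shortExact :
    ∃ C : ShortComplex (pullback f η).Modules, C.ShortExact ∧
      Nonempty (C.X₁ ≅ Coh.structureModule (pullback f η)) ∧
      Nonempty (C.X₂ ≅ (Scheme.Modules.pullback (pullback.fst f η)).obj (Omega.sheaf pX)) ∧
      Nonempty (C.X₃ ≅ Omega.sheaf (pullback.snd f η)) ∧ FlatMod.IsFinLocFree C.X₃ := by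
  obtain ⟨C, hC, ⟨e1⟩, e2, e3, h3⟩ := GenSeq.exists_shortExact_gen pS f pX hf U hUf η hr
  obtain ⟨e⟩ := Triv.nonempty_pullback_iso_O (pullback.snd f η) η
    (OmegaRank.isFinLocFreeOfRank_omega 1 pS)
  exact ⟨C, hC, ⟨e1 ≪≫ e⟩, e2, e3, h3⟩

variable (K : Type u) [Field K] [(pullback f η).Over (Spec (CommRingCat.of K))]
  (hadd : AddHyp K (pullback f η))

include hf hUf hr hadd in
/-- (A6), the step -/
theorem euler_pull_succ (p : ℕ) :
    Curv2.euler K (pullback f η) ((Scheme.Modules.pullback (pullback.fst f η)).obj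
        (extPow (Omega.sheaf pX) (p + 1))) =
      Curv2.euler K (pullback f η) (extPow (Omega.sheaf (pullback.snd f η)) (p + 1)) +
        Curv2.euler K (pullback f η) (extPow (Omega.sheaf (pullback.snd f η)) p) := by
  obtain ⟨C, hC, ⟨e1⟩, ⟨e2⟩, ⟨e3⟩, h3⟩ := exists_shortExact pS pX f hf U hUf η hr
  have h1 : FlatMod.IsFinLocFree C.X₁ := isFinLocFree_iso e1.symm isFinLocFree_O
  have h2 := Groth.Agent.Sga67.LocBasis.isFinLocFree_of_shortExact hC h1 h3
  have h3' := isFinLocFree_iso e3 h3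
  have hX := OmegaRank.isFinLocFree_omega pX
  have key := euler_extPow_succ K hadd hC e1 h3 p
  obtain ⟨i2⟩ := nonempty_iso_extPow h2 e2
    (Groth.Agent.Krr.H487.PullExt.isExtPow_pullback (pullback.fst f η) hX (isExtPow_extPow hX (p + 1)))
  obtain ⟨i3⟩ := nonempty_iso_extPow_iso h3 h3' e3 (p + 1)
  obtain ⟨i3'⟩ := nonempty_iso_extPow_iso h3 h3' e3 p
  rw [← euler_iso K i2, ← euler_iso K i3, ← euler_iso K i3', key]

include hf hUf hr in
/-- (A6), degree zero -/
theorem euler_pull_zero :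
    Curv2.euler K (pullback f η) ((Scheme.Modules.pullback (pullback.fst f η)).obj
        (extPow (Omega.sheaf pX) 0)) =
      Curv2.euler K (pullback f η) (extPow (Omega.sheaf (pullback.snd f η)) 0) := by
  obtain ⟨C, hC, ⟨e1⟩, ⟨e2⟩, ⟨e3⟩, h3⟩ := exists_shortExact pS pX f hf U hUf η hr
  have h3' := isFinLocFree_iso e3 h3
  have hX := OmegaRank.isFinLocFree_omega pX
  obtain ⟨i1⟩ := nonempty_iso_extPow hX (Iso.refl _) (Groth.Agent.Sga67.TensorOps.isExtPow_zero _)
  obtain ⟨i2⟩ := nonempty_iso_extPow h3' (Iso.refl _) (Groth.Agent.Sga67.TensorOps.isExtPow_zero _)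
  exact euler_iso K ((Scheme.Modules.pullback (pullback.fst f η)).mapIso i1 ≪≫
    Groth.Agent.Fga.UnitRestrict.pullbackUnitIso _ ≪≫ i2.symm)

end Main

end Groth.Agent.Vancyc.H878.A6
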