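import Groth.Agent.Vancyc.H878.RelOmega
import Groth.Agent.Vancyc.H878.OmegaRank
import Groth.Agent.Krr.H496.PullK0

/-!
# The cotangent sequence on a geometric fibre

`f : X ⟶ S` over `B`, smooth on the open `U`, `η : T ⟶ S` such that `X ×_S T` lies over `U`:
`0 → pr₂^* η^* Ω_{S/B} → pr₁^* Ω_{X/B} → Ω_{X ×_S T/T} → 0` is exact.
-/

set_option autoImplicit false
universe u

open CategoryTheory CategoryTheory.Limits AlgebraicGeometry TopologicalSpace

namespace Groth.Agent.Vancyc.H878.GenSeq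

open RelOmega OmegaRank

variable {X S B T : Scheme.{u}}

theorem isPullback_restrict {f : X ⟶ S} {η : T ⟶ S} {U : X.Opens} {q : pullback f η ⟶ (U : Scheme.{u})}
    (hq : q ≫ U.ι = pullback.fst f η) : IsPullback q (pullback.snd f η) (U.ι ≫ f) η := by
  have h1 : IsPullback q (𝟙 _) U.ι (pullback.fst f η) :=
    ⟨⟨by rw [hq, Category.id_comp]⟩, ⟨PullbackCone.IsLimit.mk _ (fun s => s.snd)
      (fun s => by rw [← cancel_mono U.ι, Category.assoc, hq, s.condition])
      (fun s => by rw [Category.comp_id]) (fun s m h1 h2 => by rw [← h2, Category.comp_id])⟩⟩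
  have h2 := h1.paste_vert (IsPullback.of_hasPullback f η)
  rwa [Category.id_comp] at h2

/-- the cotangent sequence on the fibre -/
theorem exists_shortExact_gen (pS : S ⟶ B) (f : X ⟶ S) (pX : X ⟶ B) (hf : f ≫ pS = pX)
    [IsSeparated pX] [IsSeparated pS] (U : X.Opens) (hU : Smooth (U.ι ≫ f)) (η : T ⟶ S)
    (hr : ∀ z : ↥(pullback f η), (pullback.fst f η).base z ∈ U) :
    ∃ C : ShortComplex (pullback f η).Modules, C.ShortExact ∧
      Nonempty (C.X₁ ≅ (Scheme.Modules.pullback (pullback.snd f η)).obj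
        ((Scheme.Modules.pullback η).obj (Omega.sheaf pS))) ∧
      Nonempty (C.X₂ ≅ (Scheme.Modules.pullback (pullback.fst f η)).obj (Omega.sheaf pX)) ∧
      Nonempty (C.X₃ ≅ Omega.sheaf (pullback.snd f η)) ∧ FlatMod.IsFinLocFree C.X₃ := by
  subst hf
  have hs : IsSeparated f := IsSeparated.of_comp f pS
  let q : pullback f η ⟶ (U : Scheme.{u}) := IsOpenImmersion.lift U.ι (pullback.fst f η) (by
    rw [Scheme.Opens.range_ι]
    rintro _ ⟨z, rfl⟩
    exact hr z)
  have hq : q ≫ U.ι = pullback.fst f η := IsOpenImmersion.lift_fac _ _ _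
  have H := isPullback_restrict hq
  obtain ⟨C, hC, ⟨e1⟩, ⟨e2⟩, ⟨e3⟩⟩ := exists_shortExact (U.ι ≫ f) pS
  have hfl := isFinLocFree_omega (U.ι ≫ f)
  have hfl3 : FlatMod.IsFinLocFree C.X₃ := Groth.Agent.Dcoh.LocalD.isFinLocFree_of_iso e3.symm hfl
  refine ⟨C.map (Scheme.Modules.pullback q),
    Groth.Agent.Krr.H496.PullK0.shortExact_pullback_of_isFinLocFree q hC hfl3, ⟨?_⟩, ⟨?_⟩, ⟨?_⟩, ?_⟩
  · have h1 : q ≫ U.ι ≫ f = pullback.snd f η ≫ η := by rw [← Category.assoc, hq, pullback.condition]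
    exact (Scheme.Modules.pullback q).mapIso e1 ≪≫ (Scheme.Modules.pullbackComp q (U.ι ≫ f)).app _ ≪≫
      (Scheme.Modules.pullbackCongr h1).app _ ≪≫
      ((Scheme.Modules.pullbackComp (pullback.snd f η) η).app _).symm
  · exact (Scheme.Modules.pullback q).mapIso (e2 ≪≫
      (Groth.Agent.Smoothlim.ConormalRes.omegaRestrictIso (f := f ≫ pS) (f' := (U.ι ≫ f) ≫ pS) (j := U.ι)
        (l := 𝟙 B) (by simp)).symm) ≪≫ (Scheme.Modules.pullbackComp q U.ι).app _ ≪≫
      (Scheme.Modules.pullbackCongr hq).app _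
  · exact (Scheme.Modules.pullback q).mapIso e3 ≪≫ omegaBC H
  · exact Groth.Agent.PerfB.FlatPull.isFinLocFree_pullback q hfl3

end Groth.Agent.Vancyc.H878.GenSeq
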