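import Groth.Agent.Krr.H492.ConProd

/-!
# The cotangent sequence of a smooth morphism and base change of the differentials

For `f : U ⟶ S` smooth and separated and `p : S ⟶ B` separated:
* `exists_shortExact`: `0 → f^* Ω_{S/B} → Ω_{U/B} → Ω_{U/S} → 0` is exact;
* `omegaBC`: `q₁^* Ω_{U/S} ≅ Ω_{F/T}` for a cartesian square `F = U ×_S T`.
-/

set_option autoImplicit false
universe u

open CategoryTheory CategoryTheory.Limits AlgebraicGeometry TopologicalSpace

namespace Groth.Agent.Vancyc.H878.RelOmega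

open Groth.Agent.Grpsch.ConormalIso Groth.Agent.Smoothlim.ConormalRes Groth.Agent.Krr.H492

/-- the conormal sheaf does not change under an isomorphism of the ambient scheme -/
noncomputable def conormalCompIso {Z X X' : Scheme.{u}} (i : Z ⟶ X) (e : X ⟶ X') [IsIso e] [QuasiCompact i] :
    Omega.conormal (i ≫ e) ≅ Omega.conormal i :=
  haveI : QuasiCompact (i ≫ e) := inferInstance
  ((Scheme.Modules.pullbackId Z).app _).symm ≪≫
    conormalIso (i := i ≫ e) (i' := i) (k := e) (g := 𝟙 Z) (IsPullback.of_vert_isIso ⟨by simp⟩)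

section BC

variable {U S F T : Scheme.{u}} {f : U ⟶ S} {η : T ⟶ S} {q₁ : F ⟶ U} {q₂ : F ⟶ T}

/-- `F ×_T F ⟶ U ×_S U` -/
noncomputable def kk (H : IsPullback q₁ q₂ f η) : pullback q₂ q₂ ⟶ pullback f f :=
  pullback.map q₂ q₂ f f q₁ q₁ η H.w.symm H.w.symm

theorem kk_fst (H : IsPullback q₁ q₂ f η) : kk H ≫ pullback.fst f f = pullback.fst q₂ q₂ ≫ q₁ :=
  pullback.lift_fst _ _ _

theorem kk_snd (H : IsPullback q₁ q₂ f η) : kk H ≫ pullback.snd f f = pullback.snd q₂ q₂ ≫ q₁ :=
  pullback.lift_snd _ _ _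

theorem isPullback_kk (H : IsPullback q₁ q₂ f η) :
    IsPullback (kk H) (pullback.snd q₂ q₂) (pullback.snd f f) q₁ := by
  refine IsPullback.flip ?_
  refine IsPullback.of_bot (h₁₁ := pullback.snd q₂ q₂) (h₂₁ := pullback.snd f f) (h₃₁ := f)
    (v₁₁ := kk H) (v₁₂ := q₁) (v₂₁ := pullback.fst f f) (v₂₂ := f) ?_ ?_ ?_
  · rw [kk_fst, H.w]
    exact (IsPullback.of_hasPullback q₂ q₂).flip.paste_vert H.flip
  · exact (kk_snd H).symm
  · exact (IsPullback.of_hasPullback f f).flip

theorem isPullback_diag (H : IsPullback q₁ q₂ f η) :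
    IsPullback (pullback.diagonal q₂) q₁ (kk H) (pullback.diagonal f) := by
  refine IsPullback.of_right (h₁₂ := pullback.snd q₂ q₂) (v₁₃ := q₁) (h₂₂ := pullback.snd f f) ?_ ?_
    (isPullback_kk H).flip
  · rw [pullback.diagonal_snd, pullback.diagonal_snd]
    exact IsPullback.of_horiz_isIso ⟨by simp⟩
  · apply pullback.hom_ext
    · rw [Category.assoc, kk_fst, Category.assoc, pullback.diagonal_fst, pullback.diagonal_fst_assoc,
        Category.comp_id]
    · rw [Category.assoc, kk_snd, Category.assoc, pullback.diagonal_snd, pullback.diagonal_snd_assoc,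
        Category.comp_id]

/-- the differentials commute with base change -/
noncomputable def omegaBC (H : IsPullback q₁ q₂ f η) [QuasiSeparated f] :
    (Scheme.Modules.pullback q₁).obj (Omega.sheaf f) ≅ Omega.sheaf q₂ :=
  haveI : QuasiSeparated q₂ := MorphismProperty.of_isPullback H inferInstance
  @asIso _ _ _ _ (conormalMap (isPullback_diag H).w)
    (isIso_conormalMap_of_section (isPullback_diag H) (isPullback_kk H) (pullback.diagonal_snd f))

end BC

section Seq

variable {U S B : Scheme.{u}} (f : U ⟶ S) (p : S ⟶ B)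

theorem w₁ : f ≫ p = 𝟙 U ≫ f ≫ p := (Category.id_comp _).symm

/-- the graph `U ⟶ S ×_B U` -/
noncomputable abbrev gr : U ⟶ pullback p (𝟙 U ≫ f ≫ p) := ConProd.sg p (f ≫ p) (𝟙 U) f (w₁ f p)

/-- the projection `S ×_B U ⟶ S` -/
noncomputable abbrev pr : pullback p (𝟙 U ≫ f ≫ p) ⟶ S := pullback.fst _ _

theorem gr_pr : gr f p ≫ pr f p = f := pullback.lift_fst _ _ _

theorem w₂ : 𝟙 U ≫ f = gr f p ≫ pr f p := by rw [gr_pr, Category.id_comp]

/-- `U ×_S (S ×_B U) ≅ U ×_B U` -/
noncomputable def amb : pullback f (pr f p) ≅ pullback (f ≫ p) (f ≫ p) :=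
  pullbackRightPullbackFstIso p (𝟙 U ≫ f ≫ p) f ≪≫
    pullback.congrHom rfl (Category.id_comp _)

theorem lift_amb : pullback.lift (𝟙 U) (gr f p) (w₂ f p) ≫ (amb f p).hom = pullback.diagonal (f ≫ p) := by
  apply pullback.hom_ext
  · rw [Category.assoc, pullback.diagonal_fst, amb, Iso.trans_hom, Category.assoc,
      pullback.congrHom_hom, pullback.lift_fst, Category.comp_id]
    erw [pullbackRightPullbackFstIso_hom_fst]
    rw [pullback.lift_fst]
  · rw [Category.assoc, pullback.diagonal_snd, amb, Iso.trans_hom, Category.assoc,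
      pullback.congrHom_hom, pullback.lift_snd, Category.comp_id]
    erw [pullbackRightPullbackFstIso_hom_snd]
    rw [pullback.lift_snd_assoc]
    exact pullback.lift_snd _ _ _

/-- the cotangent sequence of a smooth morphism -/
theorem exists_shortExact [Smooth f] [QuasiSeparated f] [QuasiSeparated p] :
    ∃ C : ShortComplex U.Modules, C.ShortExact ∧
      Nonempty (C.X₁ ≅ (Scheme.Modules.pullback f).obj (Omega.sheaf p)) ∧
      Nonempty (C.X₂ ≅ Omega.sheaf (f ≫ p)) ∧ Nonempty (C.X₃ ≅ Omega.sheaf f) := by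
  have hs : gr f p ≫ pullback.snd p (𝟙 U ≫ f ≫ p) = 𝟙 U := pullback.lift_snd _ _ _
  have h1 : IsPreimmersion (gr f p) := isPreimmersion_of_section hs
  have h2 : QuasiSeparated (pullback.snd p (𝟙 U ≫ f ≫ p)) := inferInstance
  have h3 : QuasiCompact (gr f p) := quasiCompact_of_section hs
  obtain ⟨C, hC, ⟨e1⟩, ⟨e2⟩, ⟨e3⟩⟩ :=
    ConProd.exists_shortExact f (pr f p) (gr f p) (𝟙 U) (w₂ f p)
  refine ⟨C, hC, ⟨e1 ≪≫ ?_⟩, ⟨e2 ≪≫ ?_⟩, ⟨e3 ≪≫ (Scheme.Modules.pullbackId U).app _⟩⟩
  · have := isIso_conormalMap_of_section (ConProd.isPullback_sg p (f ≫ p) (𝟙 U) f (w₁ f p))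
      (ConProd.isPullback_gg p (f ≫ p) (𝟙 U) f (w₁ f p)) (pullback.diagonal_snd p)
    exact (asIso (conormalMap (ConProd.isPullback_sg p (f ≫ p) (𝟙 U) f (w₁ f p)).w)).symm
  · have h4 : QuasiCompact (pullback.lift (𝟙 U) (gr f p) (w₂ f p)) :=
      quasiCompact_of_section (f := pullback.fst f (pr f p)) (pullback.lift_fst _ _ _)
    exact (conormalCompIso _ (amb f p).hom).symm ≪≫ eqToIso (by rw [lift_amb]; rfl)

end Seq

end Groth.Agent.Vancyc.H878.RelOmega
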